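import Mathlib
import Cfsg.Agent.Lib.Helper11.SymSylow

set_option autoImplicit false

/-! Definitions for the ladder USYL (S4349): a `2`-element of a finite symmetric group lies in
exactly one Sylow `2`-subgroup iff it has at most two fixed points and its nontrivial cycles have
pairwise different lengths.  Pointwise forms of the two conditions. -/

namespace Cfsg.Agent.Lib.Helper46.USyl

variable {Ω : Type*}

/-- two points have the same period under `x` -/
def Par (x : Equiv.Perm Ω) (a b : Ω) : Prop := ∀ k : ℕ, (x ^ k) a = a ↔ (x ^ k) b = b

/-- the nontrivial cycles of `x` have pairwise different lengths -/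
def G1 (x : Equiv.Perm Ω) : Prop := ∀ a b : Ω, x a ≠ a → Par x a b → x.SameCycle a b

/-- `x` has at most two fixed points -/
def G2 (x : Equiv.Perm Ω) : Prop :=
  ∀ a b c : Ω, x a = a → x b = b → x c = c → a = b ∨ a = c ∨ b = c

end Cfsg.Agent.Lib.Helper46.USyl
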