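import Mathlib
import Cfsg.Agent.Lib.Helper11.SymSylow
import Cfsg.Agent.Lib.Helper46.USyl.Defs

set_option autoImplicit false

namespace Cfsg.Agent.Lib.Helper46.USyl

open Equiv Equiv.Perm Subgroup
open Cfsg.Agent.Lib.Helper11.SymSyl

/-- RUNG GI1 -/
theorem g2_iff {Ω : Type*} [Fintype Ω] [DecidableEq Ω] (x : Perm Ω) :
    G2 x ↔ Fintype.card Ω ≤ x.support.card + 2 := by
  have hc : (x.supportᶜ).card + x.support.card = Fintype.card Ω := by
    rw [Finset.card_compl]; exact Nat.sub_add_cancel (Finset.card_le_univ _)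
  have hm : ∀ a, a ∈ x.supportᶜ ↔ x a = a := by intro a; simp [Equiv.Perm.mem_support]
  constructor
  · intro h
    by_contra hlt
    have h2 : 2 < (x.supportᶜ).card := by omega
    obtain ⟨a, b, c, ha, hb, hc', hab, hac, hbc⟩ := Finset.two_lt_card_iff.mp h2
    rcases h a b c ((hm a).mp ha) ((hm b).mp hb) ((hm c).mp hc') with h | h | h
    exacts [hab h, hac h, hbc h]
  · intro h a b c ha hb hc'
    by_contra hne
    push Not at hne
    have h2 : 2 < (x.supportᶜ).card :=
      Finset.two_lt_card_iff.mpr ⟨a, b, c, (hm a).mpr ha, (hm b).mpr hb, (hm c).mpr hc', hne.1, hne.2.1, hne.2.2⟩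
    omega

end Cfsg.Agent.Lib.Helper46.USyl
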