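import Mathlib
import Cfsg.Agent.Lib.Helper11.SymSylow
import Cfsg.Agent.Lib.Helper46.USyl.Defs

set_option autoImplicit false

namespace Cfsg.Agent.Lib.Helper46.USyl

open Equiv Equiv.Perm Subgroup
open Cfsg.Agent.Lib.Helper11.SymSyl

lemma gi2_pow_apply_iff {Ω : Type*} [Fintype Ω] [DecidableEq Ω] (x : Perm Ω) (a : Ω) (ha : x a ≠ a) (k : ℕ) :
    (x ^ k) a = a ↔ (x.cycleOf a).support.card ∣ k := by
  have hcyc : IsCycle (x.cycleOf a) := isCycle_cycleOf x ha
  have hne : (x.cycleOf a) a ≠ a := by rw [cycleOf_apply_self]; exact ha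
  rw [← cycleOf_pow_apply_self, ← hcyc.pow_eq_one_iff' hne, ← orderOf_dvd_iff_pow_eq_one, hcyc.orderOf]

lemma gi2_par_iff {Ω : Type*} [Fintype Ω] [DecidableEq Ω] (x : Perm Ω) (a b : Ω) (ha : x a ≠ a) (hb : x b ≠ b) :
    Par x a b ↔ (x.cycleOf a).support.card = (x.cycleOf b).support.card := by
  constructor
  · intro h
    apply Nat.dvd_antisymm
    · rw [← gi2_pow_apply_iff x a ha, h, gi2_pow_apply_iff x b hb]
    · rw [← gi2_pow_apply_iff x b hb, ← h, gi2_pow_apply_iff x a ha]
  · intro h k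
    rw [gi2_pow_apply_iff x a ha, gi2_pow_apply_iff x b hb, h]

/-- RUNG GI2 -/
theorem g1_iff {Ω : Type*} [Fintype Ω] [DecidableEq Ω] (x : Perm Ω) :
    G1 x ↔ x.cycleType.Nodup := by
  rw [cycleType_def, Multiset.nodup_map_iff_inj_on x.cycleFactorsFinset.nodup]
  constructor
  · intro h c1 hc1 c2 hc2 hcard
    have hc1' : c1 ∈ x.cycleFactorsFinset := hc1
    have hc2' : c2 ∈ x.cycleFactorsFinset := hc2
    obtain ⟨a, ha⟩ := ((mem_cycleFactorsFinset_iff.mp hc1').1).nonempty_support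
    obtain ⟨b, hb⟩ := ((mem_cycleFactorsFinset_iff.mp hc2').1).nonempty_support
    have e1 : c1 = x.cycleOf a := cycle_is_cycleOf ha hc1'
    have e2 : c2 = x.cycleOf b := cycle_is_cycleOf hb hc2'
    have ha' : x a ≠ a := mem_support.mp (mem_cycleFactorsFinset_support_le hc1' ha)
    have hb' : x b ≠ b := mem_support.mp (mem_cycleFactorsFinset_support_le hc2' hb)
    have hpar : Par x a b := (gi2_par_iff x a b ha' hb').mpr (by rw [← e1, ← e2]; exact hcard)
    rw [e1, e2]
    exact (h a b ha' hpar).cycleOf_eq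
  · intro h a b ha hpar
    have hb : x b ≠ b := by
      intro hb
      apply ha
      have := (hpar 1).mpr (by simpa using hb)
      simpa using this
    have h1 : x.cycleOf a ∈ x.cycleFactorsFinset := cycleOf_mem_cycleFactorsFinset_iff.mpr (mem_support.mpr ha)
    have h2 : x.cycleOf b ∈ x.cycleFactorsFinset := cycleOf_mem_cycleFactorsFinset_iff.mpr (mem_support.mpr hb)
    have e := h _ h1 _ h2 ((gi2_par_iff x a b ha hb).mp hpar)
    have hbm : b ∈ (x.cycleOf b).support := by
      rw [mem_support_cycleOf_iff]; exact ⟨SameCycle.refl x b, mem_support.mpr hb⟩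
    rw [← e, mem_support_cycleOf_iff] at hbm
    exact hbm.1

end Cfsg.Agent.Lib.Helper46.USyl
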