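import Mathlib
import Cfsg.Agent.Lib.Helper11.SymSylow
import Cfsg.Agent.Lib.Helper46.USyl.Defs

set_option autoImplicit false

namespace Cfsg.Agent.Lib.Helper46.USyl

open Equiv Equiv.Perm Subgroup
open Cfsg.Agent.Lib.Helper11.SymSyl

lemma mu_pow_comm {Ω : Type*} (x σ : Perm Ω) (hc : ∀ a, x (σ a) = σ (x a)) (k : ℕ) (a : Ω) :
    (x ^ k) (σ a) = σ ((x ^ k) a) := by
  induction k generalizing a with
  | zero => rfl
  | succ k ih => rw [pow_succ, Perm.mul_apply, Perm.mul_apply, hc, ih]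

lemma mu_zpow_comm {Ω : Type*} (x σ : Perm Ω) (hc : ∀ a, x (σ a) = σ (x a)) (k : ℤ) (a : Ω) :
    (x ^ k) (σ a) = σ ((x ^ k) a) := by
  have hcomm : Commute x σ := by
    ext b; exact hc b
  have := (hcomm.zpow_left k).eq
  have h2 := congrArg (fun f : Perm Ω => f a) this
  simpa [Perm.mul_apply] using h2

lemma mu_par {Ω : Type*} (x σ : Perm Ω) (hc : ∀ a, x (σ a) = σ (x a)) (a : Ω) : Par x a (σ a) := by
  intro k
  rw [mu_pow_comm x σ hc]
  exact (σ.injective.eq_iff).symm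

lemma mu_arith (m j i : ℤ) (h1 : m ∣ 2 * j) (h2 : ¬ m ∣ j) (h3 : m ∣ 2 * i) (h4 : ¬ m ∣ i) : m ∣ j - i := by
  obtain ⟨s, hs⟩ := h1
  obtain ⟨t, ht⟩ := h3
  rcases Int.even_or_odd' s with ⟨s', rfl | rfl⟩
  · exfalso; apply h2
    refine ⟨s', ?_⟩
    have : 2 * j = 2 * (m * s') := by rw [hs]; ring
    exact Int.eq_of_mul_eq_mul_left (by norm_num) this
  rcases Int.even_or_odd' t with ⟨t', rfl | rfl⟩
  · exfalso; apply h4
    refine ⟨t', ?_⟩
    have : 2 * i = 2 * (m * t') := by rw [ht]; ring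
    exact Int.eq_of_mul_eq_mul_left (by norm_num) this
  refine ⟨s' - t', ?_⟩
  have : 2 * (j - i) = 2 * (m * (s' - t')) := by rw [mul_sub, hs, ht]; ring
  exact Int.eq_of_mul_eq_mul_left (by norm_num) this

lemma mu_fixed {Ω : Type*} (x σ σ' : Perm Ω) (h2 : G2 x) (hσ : IsMatching σ)
    (hc : ∀ a, x (σ a) = σ (x a)) (hc' : ∀ a, x (σ' a) = σ' (x a)) (a : Ω) (hxa : x a = a)
    (h : σ a = a) : σ' a = a := by
  by_contra hne
  have hb : x (σ' a) = σ' a := by rw [hc', hxa]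
  have hsb : x (σ (σ' a)) = σ (σ' a) := by rw [hc, hb]
  have n1 : σ (σ' a) ≠ σ' a := fun e => hne (hσ.fix _ _ e h)
  have n2 : σ (σ' a) ≠ a := by
    intro e
    have := congrArg σ e
    rw [hσ.sq, h] at this
    exact hne this
  rcases h2 a (σ' a) (σ (σ' a)) hxa hb hsb with e | e | e
  · exact hne e.symm
  · exact n2 e.symm
  · exact n1 e.symm

lemma mu_moved {Ω : Type*} (x σ : Perm Ω) (h1 : G1 x) (hσ : IsMatching σ)
    (hc : ∀ a, x (σ a) = σ (x a)) (a : Ω) (hxa : x a ≠ a) :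
    ∃ j : ℤ, (x ^ j) a = σ a ∧ ((MulAction.period x a : ℕ) : ℤ) ∣ 2 * j ∧ ¬ ((MulAction.period x a : ℕ) : ℤ) ∣ j := by
  obtain ⟨j, hj⟩ := h1 a (σ a) hxa (mu_par x σ hc a)
  refine ⟨j, hj, ?_, ?_⟩
  · rw [← MulAction.zpow_smul_eq_iff_period_dvd, Perm.smul_def, two_mul, zpow_add, Perm.mul_apply, hj,
      mu_zpow_comm x σ hc, hj, hσ.sq]
  · rw [← MulAction.zpow_smul_eq_iff_period_dvd, Perm.smul_def, hj]
    intro e
    apply hxa
    apply hσ.fix _ _ _ e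
    rw [← hc, e]

/-- RUNG MU -/
theorem matching_unique {Ω : Type*} [Finite Ω] (x τ τ' : Perm Ω) (h1 : G1 x) (h2 : G2 x)
    (hτ : IsMatching τ) (hτ' : IsMatching τ')
    (hc : ∀ a, x (τ a) = τ (x a)) (hc' : ∀ a, x (τ' a) = τ' (x a)) : τ = τ' := by
  ext a
  by_cases hxa : x a = a
  · have hb : x (τ a) = τ a := by rw [hc, hxa]
    have hb' : x (τ' a) = τ' a := by rw [hc', hxa]
    rcases h2 a (τ a) (τ' a) hxa hb hb' with e | e | e
    · rw [← e, mu_fixed x τ τ' h2 hτ hc hc' a hxa e.symm]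
    · rw [← e, mu_fixed x τ' τ h2 hτ' hc' hc a hxa e.symm]
    · exact e
  · obtain ⟨j, hj, a1, a2⟩ := mu_moved x τ h1 hτ hc a hxa
    obtain ⟨i, hi, b1, b2⟩ := mu_moved x τ' h1 hτ' hc' a hxa
    have hd := mu_arith _ j i a1 a2 b1 b2
    rw [← MulAction.zpow_smul_eq_iff_period_dvd, Perm.smul_def] at hd
    rw [← hj, ← hi]
    have : x ^ j = x ^ i * x ^ (j - i) := by rw [← zpow_add]; congr 1; ring
    rw [this, Perm.mul_apply, hd]

end Cfsg.Agent.Lib.Helper46.USyl
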