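import Mathlib
import Cfsg.Agent.Lib.Helper11.SymSylow
import Cfsg.Agent.Lib.Helper46.USyl.Defs
import Cfsg.Agent.Lib.Helper46.USyl.MU

set_option autoImplicit false

namespace Cfsg.Agent.Lib.Helper46.USyl

open Equiv Equiv.Perm Subgroup
open Cfsg.Agent.Lib.Helper11.SymSyl

lemma gp0_phi_pow {Ω : Type*} [LinearOrder Ω] (x τ : Perm Ω) (hτ : IsMatching τ)
    (hx : x ∈ CC τ) (r : RR τ) (k : ℕ) :
    ((((phi τ hτ.sq ⟨x, hx⟩) ^ k) r : RR τ) : Ω) = rho τ ((x ^ k) r.1) := by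
  rw [← map_pow, phi_apply]; rfl

lemma gp0_phi_zpow {Ω : Type*} [LinearOrder Ω] (x τ : Perm Ω) (hτ : IsMatching τ)
    (hx : x ∈ CC τ) (r : RR τ) (k : ℤ) :
    ((((phi τ hτ.sq ⟨x, hx⟩) ^ k) r : RR τ) : Ω) = rho τ ((x ^ k) r.1) := by
  rw [← map_zpow, phi_apply]; rfl

lemma gp0_rho_eq_iff {Ω : Type*} [LinearOrder Ω] (τ : Perm Ω) (hτ : IsMatching τ) (r : RR τ) (y : Ω) :
    rho τ y = r.1 ↔ y = r.1 ∨ y = τ r.1 := by
  constructor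
  · intro h
    rcases rho_cases τ y with e | e
    · left; rw [← e, h]
    · right; rw [← h, e, hτ.sq]
  · rintro (rfl | rfl)
    · exact rho_of_lt r.1 r.2
    · rw [rho_tau hτ.sq]; exact rho_of_lt r.1 r.2

lemma gp0_fix_iff {Ω : Type*} [LinearOrder Ω] (x τ : Perm Ω) (hτ : IsMatching τ)
    (hx : x ∈ CC τ) (r : RR τ) (k : ℕ) :
    ((phi τ hτ.sq ⟨x, hx⟩) ^ k) r = r ↔ (x ^ k) r.1 = r.1 ∨ (x ^ k) r.1 = τ r.1 := by
  rw [Subtype.ext_iff, gp0_phi_pow x τ hτ hx, gp0_rho_eq_iff τ hτ]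

/-- RUNG GP0 (period doubling) -/
theorem pow_apply_eq_iff {Ω : Type*} [Fintype Ω] [LinearOrder Ω] (x τ : Perm Ω) (hτ : IsMatching τ)
    (hx : x ∈ CC τ) (r : RR τ) (hr : x.SameCycle r.1 (τ r.1)) (k : ℕ) :
    (x ^ k) r.1 = r.1 ↔ ∃ k' : ℕ, k = 2 * k' ∧ ((phi τ hτ.sq ⟨x, hx⟩) ^ k') r = r := by
  obtain ⟨j, hj⟩ := hr
  obtain ⟨m, hm⟩ : ∃ m : ℤ, m = ((MulAction.period x r.1 : ℕ) : ℤ) := ⟨_, rfl⟩
  have hc : ∀ a, x (τ a) = τ (x a) := mem_CC.mp hx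
  have hP : ∀ i : ℤ, (x ^ i) r.1 = r.1 ↔ m ∣ i := fun i => by
    rw [hm, ← MulAction.zpow_smul_eq_iff_period_dvd, Perm.smul_def]
  have hne : τ r.1 ≠ r.1 := ne_of_gt r.2
  have a1 : m ∣ 2 * j := by
    rw [← hP, two_mul, zpow_add, Perm.mul_apply, hj, mu_zpow_comm x τ hc, hj, hτ.sq]
  have a2 : ¬ m ∣ j := by rw [← hP, hj]; exact hne
  have hQ : ∀ i : ℤ, (x ^ i) r.1 = τ r.1 ↔ m ∣ i - j := by
    intro i
    rw [← hP, ← hj]
    have : x ^ i = x ^ j * x ^ (i - j) := by rw [← zpow_add]; congr 1; ring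
    rw [this, Perm.mul_apply]
    exact (x ^ j).injective.eq_iff
  have h2m : (2 : ℤ) ∣ m := by
    rcases Int.even_or_odd' m with ⟨m', e | e⟩
    · exact ⟨m', e⟩
    · exfalso; apply a2
      have hcop : IsCoprime m 2 := ⟨1, -m', by rw [e]; ring⟩
      exact hcop.dvd_of_dvd_mul_left a1
  have hk : (x ^ k) r.1 = r.1 ↔ m ∣ (k : ℤ) := by rw [← hP, zpow_natCast]
  rw [hk]
  constructor
  · intro h
    have h2k : (2 : ℤ) ∣ (k : ℤ) := dvd_trans h2m h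
    obtain ⟨k', rfl⟩ : 2 ∣ k := by exact_mod_cast h2k
    refine ⟨k', rfl, ?_⟩
    rw [gp0_fix_iff x τ hτ hx]
    have h' : m ∣ 2 * (k' : ℤ) := by exact_mod_cast h
    by_cases h3 : m ∣ (k' : ℤ)
    · left; rw [← zpow_natCast, hP]; exact h3
    · right; rw [← zpow_natCast, hQ]; exact mu_arith m k' j h' h3 a1 a2
  · rintro ⟨k', rfl, h⟩
    rw [gp0_fix_iff x τ hτ hx] at h
    push_cast
    rcases h with h | h
    · rw [← zpow_natCast, hP] at h; exact Dvd.dvd.mul_left h 2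
    · rw [← zpow_natCast, hQ] at h
      have : 2 * (k' : ℤ) = 2 * (k' - j) + 2 * j := by ring
      rw [this]; exact dvd_add (Dvd.dvd.mul_left h 2) a1

end Cfsg.Agent.Lib.Helper46.USyl
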