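import Mathlib
import Cfsg.Agent.Lib.Helper11.SymSylow
import Cfsg.Agent.Lib.Helper46.USyl.Defs
import Cfsg.Agent.Lib.Helper46.USyl.MU
import Cfsg.Agent.Lib.Helper46.USyl.GP0

set_option autoImplicit false

namespace Cfsg.Agent.Lib.Helper46.USyl

open Equiv Equiv.Perm Subgroup
open Cfsg.Agent.Lib.Helper11.SymSyl

lemma gp1_moved {Ω : Type*} [LinearOrder Ω] (x τ : Perm Ω) (hτ : IsMatching τ) (hx : x ∈ CC τ)
    (r : RR τ) (hr : (phi τ hτ.sq ⟨x, hx⟩) r ≠ r) : x r.1 ≠ r.1 := by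
  intro e
  apply hr
  have := (gp0_fix_iff x τ hτ hx r 1).mpr (Or.inl (by simpa using e))
  simpa using this

/-- RUNG GP1 -/
theorem g1_phi {Ω : Type*} [Fintype Ω] [LinearOrder Ω] (x τ : Perm Ω) (h1 : G1 x)
    (hτ : IsMatching τ) (hx : x ∈ CC τ) : G1 (phi τ hτ.sq ⟨x, hx⟩) := by
  intro r s hr hpar
  have hc : ∀ a, x (τ a) = τ (x a) := mem_CC.mp hx
  have hr1 : x r.1 ≠ r.1 := gp1_moved x τ hτ hx r hr
  have hs : (phi τ hτ.sq ⟨x, hx⟩) s ≠ s := by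
    intro e
    apply hr
    have := (hpar 1).mpr (by simpa using e)
    simpa using this
  have hs1 : x s.1 ≠ s.1 := gp1_moved x τ hτ hx s hs
  have cr : x.SameCycle r.1 (τ r.1) := h1 _ _ hr1 (mu_par x τ hc r.1)
  have cs : x.SameCycle s.1 (τ s.1) := h1 _ _ hs1 (mu_par x τ hc s.1)
  have hp : Par x r.1 s.1 := by
    intro k
    rw [pow_apply_eq_iff x τ hτ hx r cr k, pow_apply_eq_iff x τ hτ hx s cs k]
    constructor
    · rintro ⟨k', e, h⟩; exact ⟨k', e, (hpar k').mp h⟩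
    · rintro ⟨k', e, h⟩; exact ⟨k', e, (hpar k').mpr h⟩
  obtain ⟨i, hi⟩ := h1 _ _ hr1 hp
  refine ⟨i, ?_⟩
  apply Subtype.ext
  rw [gp0_phi_zpow x τ hτ hx, hi]
  exact rho_of_lt s.1 s.2

end Cfsg.Agent.Lib.Helper46.USyl
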