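import Mathlib
import Cfsg.Agent.Lib.Helper11.SymSylow
import Cfsg.Agent.Lib.Helper46.USyl.Defs
import Cfsg.Agent.Lib.Helper46.USyl.MU
import Cfsg.Agent.Lib.Helper46.USyl.GP0

set_option autoImplicit false

namespace Cfsg.Agent.Lib.Helper46.USyl

open Equiv Equiv.Perm Subgroup
open Cfsg.Agent.Lib.Helper11.SymSyl

/-- RUNG GP2 -/
theorem g2_phi {Ω : Type*} [Fintype Ω] [LinearOrder Ω] (x τ : Perm Ω) (h1 : G1 x) (h2 : G2 x)
    (hτ : IsMatching τ) (hx : x ∈ CC τ) : G2 (phi τ hτ.sq ⟨x, hx⟩) := by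
  have hc : ∀ a, x (τ a) = τ (x a) := mem_CC.mp hx
  have typ : ∀ r : RR τ, (phi τ hτ.sq ⟨x, hx⟩) r = r → x r.1 = r.1 ∨ x r.1 = τ r.1 := by
    intro r h
    have := (gp0_fix_iff x τ hτ hx r 1).mp (by simpa using h)
    simpa using this
  have nts : ∀ r s : RR τ, s.1 ≠ τ r.1 := by
    intro r s e
    have h1 := s.2
    rw [e, hτ.sq] at h1
    exact lt_asymm r.2 h1
  have BB : ∀ r s : RR τ, x r.1 = r.1 → x s.1 = s.1 → r = s := by
    intro r s hr hs
    have hr' : x (τ r.1) = τ r.1 := by rw [hc, hr]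
    rcases h2 r.1 (τ r.1) s.1 hr hr' hs with e | e | e
    · exact absurd e (ne_of_lt r.2)
    · exact Subtype.ext e
    · exact absurd e.symm (nts r s)
  have AA : ∀ r s : RR τ, (phi τ hτ.sq ⟨x, hx⟩) r = r → (phi τ hτ.sq ⟨x, hx⟩) s = s →
      x r.1 = τ r.1 → x s.1 = τ s.1 → r = s := by
    intro r s hXr hXs hr hs
    have cr : x.SameCycle r.1 (τ r.1) := ⟨1, by simpa using hr⟩
    have cs : x.SameCycle s.1 (τ s.1) := ⟨1, by simpa using hs⟩
    have hp : Par x r.1 s.1 := by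
      intro k
      rw [pow_apply_eq_iff x τ hτ hx r cr k, pow_apply_eq_iff x τ hτ hx s cs k]
      constructor
      · rintro ⟨k', e, _⟩; exact ⟨k', e, pow_apply_eq_self_of_apply_eq_self hXs k'⟩
      · rintro ⟨k', e, _⟩; exact ⟨k', e, pow_apply_eq_self_of_apply_eq_self hXr k'⟩
    have hr1 : x r.1 ≠ r.1 := by rw [hr]; exact ne_of_gt r.2
    obtain ⟨i, hi⟩ := h1 _ _ hr1 hp
    have h3 : ((phi τ hτ.sq ⟨x, hx⟩) ^ i) r = r := zpow_apply_eq_self_of_apply_eq_self hXr i
    have h4 := congrArg Subtype.val h3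
    rw [gp0_phi_zpow x τ hτ hx, hi, gp0_rho_eq_iff τ hτ] at h4
    rcases h4 with e | e
    · exact (Subtype.ext e).symm
    · exact absurd e (nts r s)
  intro r s t hr hs ht
  rcases typ r hr with a | a <;> rcases typ s hs with b | b <;> rcases typ t ht with c | c
  · left; exact BB r s a b
  · left; exact BB r s a b
  · right; left; exact BB r t a c
  · right; right; exact AA s t hs ht b c
  · right; right; exact BB s t b c
  · right; left; exact AA r t hr ht a c
  · left; exact AA r s hr hs a b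
  · left; exact AA r s hr hs a b

end Cfsg.Agent.Lib.Helper46.USyl
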