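import Mathlib
import Cfsg.Agent.Lib.Helper11.SymSylow
import Cfsg.Agent.Lib.Helper46.USyl.Defs

set_option autoImplicit false

namespace Cfsg.Agent.Lib.Helper46.USyl

open Equiv Equiv.Perm Subgroup
open Cfsg.Agent.Lib.Helper11.SymSyl

lemma sw_par_zpow {Ω : Type*} [Finite Ω] (x : Perm Ω) (a b : Ω) (hpar : Par x a b) (j : ℤ) :
    (x ^ j) a = a ↔ (x ^ j) b = b := by
  have hn : (0 : ℤ) < orderOf x := by exact_mod_cast orderOf_pos x
  rw [← zpow_mod_orderOf x j]
  obtain ⟨k, hk⟩ := Int.eq_ofNat_of_zero_le (Int.emod_nonneg j hn.ne')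
  rw [hk, zpow_natCast]
  exact hpar k

lemma sw_eq_iff {Ω : Type*} [Finite Ω] (x : Perm Ω) (a b : Ω) (hpar : Par x a b) (i j : ℤ) :
    (x ^ i) a = (x ^ j) a ↔ (x ^ i) b = (x ^ j) b := by
  have key : ∀ c : Ω, (x ^ i) c = (x ^ j) c ↔ (x ^ (-j + i)) c = c := by
    intro c
    rw [zpow_add, Perm.mul_apply, zpow_neg, Perm.inv_eq_iff_eq]
  rw [key a, key b]
  exact sw_par_zpow x a b hpar _

/-- RUNG SW -/
theorem isPGroup_closure_swap {Ω : Type*} [Fintype Ω] [DecidableEq Ω] (x : Perm Ω)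
    (hx : ∃ k : ℕ, orderOf x = 2 ^ k) (a b : Ω) (hab : ¬ x.SameCycle a b) (hpar : Par x a b) :
    IsPGroup 2 (closure ({x, swap a b} : Set (Perm Ω))) := by
  classical
  let s : ℤ → Perm Ω := fun j => swap ((x ^ j) a) ((x ^ j) b)
  let E : Subgroup (Perm Ω) := closure (Set.range s)
  have hne : ∀ i j : ℤ, (x ^ i) a ≠ (x ^ j) b := by
    intro i j h
    apply hab
    refine ⟨-j + i, ?_⟩
    rw [zpow_add, Perm.mul_apply, zpow_neg, Perm.inv_eq_iff_eq]
    exact h
  have hcomm0 : ∀ i j : ℤ, s i * s j = s j * s i := by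
    intro i j
    by_cases h : (x ^ i) a = (x ^ j) a
    · have h' := (sw_eq_iff x a b hpar i j).mp h
      have : s i = s j := by simp only [s, h, h']
      rw [this]
    · have h' : (x ^ i) b ≠ (x ^ j) b := fun hb => h ((sw_eq_iff x a b hpar i j).mpr hb)
      have hd : Perm.Disjoint (s i) (s j) := by
        apply disjoint_swap_swap
        simp only [List.nodup_cons, List.mem_cons, List.not_mem_nil, or_false, not_or,
          List.nodup_nil, and_true, not_false_eq_true]
        exact ⟨⟨hne i i, h, hne i j⟩, ⟨fun e => hne j i e.symm, h'⟩, hne j j⟩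
      exact hd.commute.eq
  have h1 : E ≤ centralizer (Set.range s) := by
    refine (closure_le _).mpr ?_
    rintro _ ⟨i, rfl⟩
    rw [SetLike.mem_coe, mem_centralizer_iff]
    rintro _ ⟨j, rfl⟩
    exact hcomm0 j i
  have hcomm : ∀ g ∈ E, ∀ h ∈ E, g * h = h * g := by
    have h2 : E ≤ centralizer (E : Set (Perm Ω)) := by
      refine (closure_le _).mpr ?_
      rintro _ ⟨i, rfl⟩
      rw [SetLike.mem_coe, mem_centralizer_iff]
      intro h hh
      exact ((mem_centralizer_iff.mp (h1 hh)) (s i) ⟨i, rfl⟩).symm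
    intro g hg h hh
    exact ((mem_centralizer_iff.mp (h2 hh)) g hg)
  have hsq : ∀ g ∈ E, g * g = 1 := by
    intro g hg
    induction hg using closure_induction with
    | mem g hg => obtain ⟨j, rfl⟩ := hg; exact swap_mul_self _ _
    | one => simp
    | mul g h hg hh ihg ihh =>
      calc g * h * (g * h) = g * (h * g) * h := by group
        _ = g * (g * h) * h := by rw [hcomm h hh g hg]
        _ = (g * g) * (h * h) := by group
        _ = 1 := by rw [ihg, ihh, one_mul]
    | inv g hg ih =>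
      have : g⁻¹ * g⁻¹ = (g * g)⁻¹ := by group
      rw [this, ih, inv_one]
  have hE : IsPGroup 2 E := by
    intro g
    refine ⟨1, ?_⟩
    apply Subtype.ext
    have := hsq g.1 g.2
    simpa [pow_two] using this
  have hconj : ∀ y : Perm Ω, (∀ j, ∃ j', y * s j * y⁻¹ = s j') → ∀ h ∈ E, y * h * y⁻¹ ∈ E := by
    intro y hy h hh
    induction hh using closure_induction with
    | mem g hg =>
      obtain ⟨j, rfl⟩ := hg
      obtain ⟨j', e⟩ := hy j
      rw [e]; exact subset_closure ⟨j', rfl⟩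
    | one => simp [one_mem]
    | mul g h _ _ ihg ihh =>
      have : y * (g * h) * y⁻¹ = (y * g * y⁻¹) * (y * h * y⁻¹) := by group
      rw [this]; exact mul_mem ihg ihh
    | inv g _ ih =>
      have : y * g⁻¹ * y⁻¹ = (y * g * y⁻¹)⁻¹ := by group
      rw [this]; exact inv_mem ih
  have hx1 : ∀ j, ∃ j', x * s j * x⁻¹ = s j' := by
    intro j
    refine ⟨1 + j, ?_⟩
    simp only [s]
    rw [← swap_apply_apply, zpow_add, zpow_one, Perm.mul_apply, Perm.mul_apply]
  have hx2 : ∀ j, ∃ j', x⁻¹ * s j * x⁻¹⁻¹ = s j' := by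
    intro j
    refine ⟨-1 + j, ?_⟩
    simp only [s]
    rw [← swap_apply_apply, zpow_add, zpow_neg_one, Perm.mul_apply, Perm.mul_apply]
  have hnorm : zpowers x ≤ normalizer (E : Set (Perm Ω)) := by
    rw [zpowers_le, mem_normalizer_iff]
    intro h
    constructor
    · exact hconj x hx1 h
    · intro hh
      have := hconj x⁻¹ hx2 _ hh
      have e : x⁻¹ * (x * h * x⁻¹) * x⁻¹⁻¹ = h := by group
      rwa [e] at this
  have hZ : IsPGroup 2 (zpowers x) := by
    obtain ⟨k, hk⟩ := hx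
    exact IsPGroup.of_card (n := k) (by rw [Nat.card_zpowers, hk])
  have hsup : IsPGroup 2 (zpowers x ⊔ E : Subgroup (Perm Ω)) := IsPGroup.to_sup_of_normal_right' hZ hE hnorm
  refine hsup.to_le ?_
  rw [closure_le]
  intro g hg
  rcases hg with rfl | hg
  · exact (le_sup_left : zpowers g ≤ zpowers g ⊔ E) (mem_zpowers g)
  · have hg' : g = s 0 := by simpa [s] using hg
    rw [hg']
    exact (le_sup_right : E ≤ zpowers x ⊔ E) (subset_closure ⟨0, rfl⟩)

end Cfsg.Agent.Lib.Helper46.USyl
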