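import Mathlib
import Cfsg.Agent.Lib.Helper11.SymSylow
import Cfsg.Agent.Lib.Helper46.USyl.Defs
import Cfsg.Agent.Lib.Helper46.USyl.GI1
import Cfsg.Agent.Lib.Helper46.USyl.GI2
import Cfsg.Agent.Lib.Helper46.USyl.SW
import Cfsg.Agent.Lib.Helper46.USyl.MU
import Cfsg.Agent.Lib.Helper46.USyl.GP0
import Cfsg.Agent.Lib.Helper46.USyl.GP1
import Cfsg.Agent.Lib.Helper46.USyl.GP2

set_option autoImplicit false

namespace Cfsg.Agent.Lib.Helper46.USyl

open Equiv Equiv.Perm Subgroup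
open Cfsg.Agent.Lib.Helper11.SymSyl

/-- transfer of a Sylow `2`-subgroup to the set of pairs of its matching -/
theorem exists_image_sylow {Ω : Type*} [Fintype Ω] [LinearOrder Ω] (T : Sylow 2 (Perm Ω))
    (τ : Perm Ω) (hτ : IsMatching τ)
    (hE : ∀ σ : Perm Ω, (∀ x, σ x = x ∨ σ x = τ x) → σ ∈ T) :
    (T : Subgroup (Perm Ω)) ≤ CC τ ∧ ∃ T2 : Sylow 2 (Perm (RR τ)),
      ∀ (y : Perm Ω) (hy : y ∈ CC τ), y ∈ T ↔ phi τ hτ.sq ⟨y, hy⟩ ∈ T2 := by
  have hsw : ∀ a, swap a (τ a) ∈ (T : Subgroup (Perm Ω)) :=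
    fun a => hE _ (swap_pairs τ hτ.sq a)
  have hNC : normalizer ((T : Subgroup (Perm Ω)) : Set (Perm Ω)) ≤ CC τ := by
    intro y hy a
    exact comm_of_normalizer T.2 hτ hsw hy a
  have hTC : (T : Subgroup (Perm Ω)) ≤ CC τ := le_normalizer.trans hNC
  refine ⟨hTC, ?_⟩
  set φ := phi τ hτ.sq with hφ
  let T1 : Subgroup (Perm (RR τ)) := ((T : Subgroup (Perm Ω)).subgroupOf (CC τ)).map φ
  have hT1 : IsPGroup 2 T1 := (T.2.comap_subtype).map φ
  have hmax : ∀ {Q : Subgroup (Perm (RR τ))}, IsPGroup 2 Q → T1 ≤ Q → Q = T1 := by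
    intro Q hQ hle
    have h1 : IsPGroup 2 ((Q.comap φ).map (CC τ).subtype) :=
      (hQ.comap_of_ker_isPGroup φ (isPGroup_ker hτ)).map _
    have h2 : (T : Subgroup (Perm Ω)) ≤ (Q.comap φ).map (CC τ).subtype := by
      intro t ht
      refine ⟨⟨t, hTC ht⟩, ?_, rfl⟩
      exact hle ⟨⟨t, hTC ht⟩, mem_subgroupOf.mpr ht, rfl⟩
    have h3 := T.is_maximal' h1 h2
    refine le_antisymm ?_ hle
    intro q hq
    have h4 : lift τ q ∈ (Q.comap φ).map (CC τ).subtype := by
      refine ⟨⟨lift τ q, lift_mem hτ.sq q⟩, ?_, rfl⟩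
      show φ _ ∈ Q
      rw [hφ, phi_lift]; exact hq
    rw [h3] at h4
    exact ⟨⟨lift τ q, lift_mem hτ.sq q⟩, mem_subgroupOf.mpr h4, phi_lift hτ.sq q⟩
  refine ⟨⟨T1, hT1, hmax⟩, ?_⟩
  intro y hy
  constructor
  · intro h
    exact ⟨⟨y, hy⟩, mem_subgroupOf.mpr h, rfl⟩
  · rintro ⟨t, ht, hte⟩
    have h7 : t⁻¹ * ⟨y, hy⟩ ∈ φ.ker := by
      rw [MonoidHom.mem_ker, map_mul, map_inv, hte, inv_mul_cancel]
    have h8 := hE _ (ker_pairs hτ _ h7)
    have h9 : y = t.1 * (t⁻¹ * ⟨y, hy⟩ : CC τ).1 := by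
      simp
    rw [h9]
    exact Subgroup.mul_mem _ (mem_subgroupOf.mp ht) h8

/-- the induction -/
theorem unique_aux : ∀ (n : ℕ) (Ω : Type) [Fintype Ω] [LinearOrder Ω],
    Fintype.card Ω = n → ∀ x : Perm Ω, G1 x → G2 x →
      ∀ T T' : Sylow 2 (Perm Ω), x ∈ T → x ∈ T' → T = T' := by
  intro n
  induction n using Nat.strong_induction_on with
  | _ n ih =>
  intro Ω _ _ hn x h1 h2 T T' hxT hxT'
  by_cases hemp : IsEmpty Ω
  · apply Sylow.ext
    ext y
    have : y = 1 := Subsingleton.elim _ _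
    rw [this]
    exact ⟨fun _ => Subgroup.one_mem _, fun _ => Subgroup.one_mem _⟩
  rw [not_isEmpty_iff] at hemp
  obtain ⟨x0⟩ := hemp
  obtain ⟨τ, hτ, hE⟩ := exists_matching_le T
  obtain ⟨τ', hτ', hE'⟩ := exists_matching_le T'
  obtain ⟨hTC, T2, hT2⟩ := exists_image_sylow T τ hτ hE
  obtain ⟨hTC', T2', hT2'⟩ := exists_image_sylow T' τ' hτ' hE'
  have hxC : x ∈ CC τ := hTC hxT
  have hxC' : x ∈ CC τ' := hTC' hxT'
  have hττ : τ = τ' := matching_unique x τ τ' h1 h2 hτ hτ' (mem_CC.mp hxC) (mem_CC.mp hxC')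
  subst hττ
  have hcard : Fintype.card (RR τ) < n := by
    rw [← hn]
    by_cases h0 : x0 < τ x0
    · apply Fintype.card_subtype_lt (x := τ x0)
      rw [hτ.sq]; exact not_lt.mpr h0.le
    · exact Fintype.card_subtype_lt h0
  have hT : T2 = T2' :=
    ih _ hcard (RR τ) rfl (phi τ hτ.sq ⟨x, hxC⟩) (g1_phi x τ h1 hτ hxC) (g2_phi x τ h1 h2 hτ hxC)
      T2 T2' ((hT2 x hxC).mp hxT) ((hT2' x hxC).mp hxT')
  apply Sylow.ext
  ext y
  constructor
  · intro hy
    have hyC := hTC hy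
    exact (hT2' y hyC).mpr (hT ▸ (hT2 y hyC).mp hy)
  · intro hy
    have hyC := hTC' hy
    exact (hT2 y hyC).mpr (hT ▸ (hT2' y hyC).mp hy)

/-- a member of a unique Sylow `2`-subgroup is good -/
theorem good_of_unique {Ω : Type*} [Fintype Ω] [DecidableEq Ω] (x : Perm Ω)
    (hx : ∃ k : ℕ, orderOf x = 2 ^ k) (h : ∃! P : Sylow 2 (Perm Ω), x ∈ P) : G1 x ∧ G2 x := by
  obtain ⟨P, hxP, hP⟩ := h
  have key : ∀ a b : Ω, ¬ x.SameCycle a b → Par x a b → swap a b ∈ P := by
    intro a b hab hpar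
    obtain ⟨Q, hQ⟩ := (isPGroup_closure_swap x hx a b hab hpar).exists_le_sylow
    have hxQ : x ∈ Q := hQ (subset_closure (by simp))
    have := hP Q hxQ
    rw [← this]
    exact hQ (subset_closure (by simp))
  constructor
  · intro a b ha hpar
    by_contra hab
    have hb : x b ≠ b := by
      intro hb
      have := (hpar 1).mpr (by simpa using hb)
      exact ha (by simpa using this)
    have hab' : ¬ x.SameCycle a (x b) := by
      intro h'
      exact hab (sameCycle_apply_right.mp h')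
    have hpar' : Par x a (x b) := by
      intro k
      rw [hpar k]
      constructor
      · intro hk
        have : (x ^ k) (x b) = x ((x ^ k) b) := by
          rw [← Perm.mul_apply, ← Perm.mul_apply, ← pow_succ, ← pow_succ']
        rw [this, hk]
      · intro hk
        have : (x ^ k) (x b) = x ((x ^ k) b) := by
          rw [← Perm.mul_apply, ← Perm.mul_apply, ← pow_succ, ← pow_succ']
        rw [this] at hk
        exact x.injective hk
    have hne1 : a ≠ b := fun h' => hab (h' ▸ SameCycle.refl x a)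
    have hne2 : a ≠ x b := fun h' => hab' (h' ▸ SameCycle.refl x a)
    exact not_three P.2 hne1 hne2 (Ne.symm hb) (key a b hab hpar) (key a (x b) hab' hpar')
  · intro a b c ha hb hc
    by_contra hcon
    push Not at hcon
    obtain ⟨hab, hac, hbc⟩ := hcon
    have hfix : ∀ u : Ω, x u = u → ∀ k : ℕ, (x ^ k) u = u := by
      intro u hu k
      induction k with
      | zero => simp
      | succ k ih => rw [pow_succ, Perm.mul_apply, hu, ih]
    have hns : ∀ u v : Ω, x u = u → u ≠ v → ¬ x.SameCycle u v := by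
      intro u v hu huv hs
      exact huv ((SameCycle.eq_of_left hs (by simpa [Function.IsFixedPt] using hu)))
    have hp : ∀ u v : Ω, x u = u → x v = v → Par x u v := by
      intro u v hu hv k
      exact ⟨fun _ => hfix v hv k, fun _ => hfix u hu k⟩
    exact not_three P.2 hab hac hbc (key a b (hns a b ha hab) (hp a b ha hb))
      (key a c (hns a c ha hac) (hp a c ha hc))

end Cfsg.Agent.Lib.Helper46.USyl
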